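import Cfsg.Agent.H241.Deg.MonFinal
import Cfsg.Agent.H58.Cop.MSc_m3
import Cfsg.Agent.H436.MonLoc
import Cfsg.Agent.H461.RM.M
import Cfsg.Agent.H657.M13.Card
import Cfsg.Agent.Prune
set_option linter.all false
prune_inst 0x7f00000000000000000000000000000000000000000000000000000000000000000000000000000000000000000000000000000000000000000000000000000000000000000000000000000000000000003fffffffffffffffffffffffffffbeffbdffffffff
open scoped Cfsg.Agent.FastGrp

/-!
# S3509, row M, box B7 (helper716): the centralizers of the elements of prime order `≥ 11` of the Monster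
-/

set_option autoImplicit false
set_option maxRecDepth 100000

namespace Cfsg.Agent.H716.RM

open Subgroup Cfsg
open Cfsg.Agent.BpSpor.MBigModel (MG)

theorem primes {p : ℕ} (hp : p.Prime) (h : 11 ≤ p)
    (hd : p ∣ 808017424794512875886459904961710757005754368000000000) :
    p = 11 ∨ p = 13 ∨ p = 17 ∨ p = 19 ∨ p = 23 ∨ p = 29 ∨ p = 31 ∨ p = 41 ∨ p = 47 ∨ p = 59 ∨ p = 71 := by
  have e : 808017424794512875886459904961710757005754368000000000 =
      2 ^ 46 * (3 ^ 20 * (5 ^ 9 * (7 ^ 6 * (11 ^ 2 * (13 ^ 3 * (17 * (19 * (23 * (29 * (31 * (41 * (47 * (59 * 71))))))))))))) := by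
    norm_num
  rw [e] at hd
  have key : ∀ {q : ℕ}, q.Prime → p ∣ q → p = q := fun hq h1 => (Nat.prime_dvd_prime_iff_eq hp hq).1 h1
  rcases hp.dvd_mul.1 hd with hd | hd
  · have := key Nat.prime_two (hp.dvd_of_dvd_pow hd); omega
  rcases hp.dvd_mul.1 hd with hd | hd
  · have := key Nat.prime_three (hp.dvd_of_dvd_pow hd); omega
  rcases hp.dvd_mul.1 hd with hd | hd
  · have := key Nat.prime_five (hp.dvd_of_dvd_pow hd); omega
  rcases hp.dvd_mul.1 hd with hd | hd
  · have := key (by norm_num : Nat.Prime 7) (hp.dvd_of_dvd_pow hd); omega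
  rcases hp.dvd_mul.1 hd with hd | hd
  · have := key (by norm_num : Nat.Prime 11) (hp.dvd_of_dvd_pow hd); omega
  rcases hp.dvd_mul.1 hd with hd | hd
  · have := key (by norm_num : Nat.Prime 13) (hp.dvd_of_dvd_pow hd); omega
  rcases hp.dvd_mul.1 hd with hd | hd
  · have := key (by norm_num : Nat.Prime 17) hd; omega
  rcases hp.dvd_mul.1 hd with hd | hd
  · have := key (by norm_num : Nat.Prime 19) hd; omega
  rcases hp.dvd_mul.1 hd with hd | hd
  · have := key (by norm_num : Nat.Prime 23) hd; omega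
  rcases hp.dvd_mul.1 hd with hd | hd
  · have := key (by norm_num : Nat.Prime 29) hd; omega
  rcases hp.dvd_mul.1 hd with hd | hd
  · have := key (by norm_num : Nat.Prime 31) hd; omega
  rcases hp.dvd_mul.1 hd with hd | hd
  · have := key (by norm_num : Nat.Prime 41) hd; omega
  rcases hp.dvd_mul.1 hd with hd | hd
  · have := key (by norm_num : Nat.Prime 47) hd; omega
  rcases hp.dvd_mul.1 hd with hd | hd
  · have := key (by norm_num : Nat.Prime 59) hd; omega
  · have := key (by norm_num : Nat.Prime 71) hd; omega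

/-- the centralizers -/
theorem cents (B : Cfsg.Agent.H940.Eng.Base) {p : ℕ} (hp : p.Prime) (h : 11 ≤ p) {x : MG} (hx : orderOf x = p) :
    (p, Nat.card (centralizer ({x} : Set MG))) ∈ [(11, 11 * 95040), (13, 73008), (13, 52728), (17, 168 * 17),
      (19, 60 * 19), (23, 24 * 23), (29, 29 * 3), (31, 6 * 31), (41, 41), (47, 47 * 2), (59, 59), (71, 71)] := by
  have hfin := BpSpor.MBigModel.finite
  have hK := Cfsg.Agent.H438.Fpr.Mon.allKnown B
  have hS := Cfsg.Agent.H715.Mon.Grp.sThree B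
  have hd : p ∣ 808017424794512875886459904961710757005754368000000000 := by
    rw [← BpSpor.MBigModel.card_M, ← hx]
    exact orderOf_dvd_natCard x
  rcases primes hp h hd with rfl | rfl | rfl | rfl | rfl | rfl | rfl | rfl | rfl | rfl | rfl
  · rw [Cfsg.Agent.H461.RM.Mon.card_cent hx]; simp
  · rcases Cfsg.Agent.H657.M13.card_cent13 hx with h1 | h1 <;> rw [h1] <;> simp
  · have h1 : Nat.card (centralizer ({x} : Set MG)) = 168 * 17 := Cfsg.Agent.H715.Mon.Exact.card17 hS hx
    rw [h1]; simp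
  · have h1 : Nat.card (centralizer ({x} : Set MG)) = 60 * 19 := Cfsg.Agent.H715.Mon.Exact.card19' hS hx
    rw [h1]; simp
  · have h1 : Nat.card (centralizer ({x} : Set MG)) = 24 * 23 := Cfsg.Agent.H715.Mon.Exact.card23 hS hx
    rw [h1]; simp
  · rw [Cfsg.Agent.H626.LD.TwentyNine.card_cent hx]; simp
  · have h1 : Nat.card (centralizer ({x} : Set MG)) = 6 * 31 := Cfsg.Agent.H715.Mon.Cent.card31 hS hx
    rw [h1]; simp
  · rw [Cfsg.Agent.H241.Deg.Mon.card41 B hx]; simp
  · have h1 : Nat.card (centralizer ({x} : Set MG)) = 47 * 2 := Cfsg.Agent.H436.MonLoc.card47 hK hx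
    rw [h1]; simp
  · rw [(Cfsg.Agent.H58.Cop.M.norm_fiftynine hK hx).1]; simp
  · rw [(Cfsg.Agent.H241.Deg.Mon.norm71 B hx).1]; simp

theorem chk : ∀ e ∈ [(11, 11 * 95040), (13, 73008), (13, 52728), (17, 168 * 17), (19, 60 * 19), (23, 24 * 23), (29, 29 * 3),
    (31, 6 * 31), (41, 41), (47, 47 * 2), (59, 59), (71, 71)], e.2 ≤ 1045440 ∧ ¬ 35 ∣ e.2 ∧
      ∀ q ∈ [11, 13, 17, 19, 23, 29, 31, 41, 47, 59, 71], q ∣ e.2 → e.1 = q := by
  decide +kernel

/-- **B7** (helper349): elements of prime order `≥ 11` -/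
theorem big (B : Cfsg.Agent.H940.Eng.Base) {p : ℕ} (hp : p.Prime) (h : 11 ≤ p) {x : MG} (hx : orderOf x = p) :
    Nat.card (centralizer ({x} : Set MG)) ≤ 1045440 ∧ ¬ 35 ∣ Nat.card (centralizer ({x} : Set MG)) :=
  ⟨(chk _ (cents B hp h hx)).1, (chk _ (cents B hp h hx)).2.1⟩

/-- **B7'** (helper349): no commuting elements of different prime orders `≥ 11` -/
theorem big1 (B : Cfsg.Agent.H940.Eng.Base) {p q : ℕ} (hp : p.Prime) (hq : q.Prime) (h : 11 ≤ p) (h' : 11 ≤ q) {x y : MG}
    (hx : orderOf x = p) (hy : orderOf y = q) (hxy : x * y = y * x) : p = q := by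
  have hfin := BpSpor.MBigModel.finite
  have hd : q ∣ 808017424794512875886459904961710757005754368000000000 := by
    rw [← BpSpor.MBigModel.card_M, ← hy]
    exact orderOf_dvd_natCard y
  have h1 : q ∣ Nat.card (centralizer ({x} : Set MG)) := by
    rw [← hy, ← Subgroup.orderOf_mk _ (mem_centralizer_singleton_iff.2 hxy.symm)]
    exact orderOf_dvd_natCard _
  refine (chk _ (cents B hp h hx)).2.2 q ?_ h1
  rcases primes hq h' hd with rfl | rfl | rfl | rfl | rfl | rfl | rfl | rfl | rfl | rfl | rfl <;> simp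

end Cfsg.Agent.H716.RM
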